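set_option autoImplicit false
namespace Cfsg.Agent.Lib.Helper6.TCD.U62C
noncomputable def NC (i : Nat) : Nat := Nat.land (Nat.shiftRight 0x2b000040001944000ac00014000780000360001100004000240002094000440000c0009c0004740001100003000110000acc0004400004000440002b100011000070001000009dc00040000000006800056600010000000001b000149400040000000004c0004b400010000030001000009cc00040000000009c00046200010000060000f00008d80003c0000c0003c0002330000f000070000e00007dc0003800000000a40004750000e000070000d00006dc000340011000018001f160000d000010000d00006c4000340001c000300002f70000c000060000c0000bd80003000014000300002f50000c00000000220001ecc000300001c0002c0001370000b000060000b00004d80002c00018000d40006250000b0003b000060002c500002c00008000300002e20000b000070000a00003dc0002800014000400002760000a000060001000009d40002800010000440002a40000a000180003f000444c0002800004000280000f10000a000070000900000dc00024000180002400003600009000050000900000d40002400004000300002f400009000030000900000cc000240000800024000032000090000000010000098000024000b000010000a5600008000030002c0002bcc000200001c0001c0001b700007000050005300007940001c0001c00018000037000060000600054000069800018000040001c0001a100006000070000500004dc00014000180001400013600005000050000500004d4000140008800018001e5300005000070000400000dc0001000014000600001360000400004000060001d540001000000000ec0000740000400002000050000488000100001c0000c00003700003000020005300007980000c00008001500001a500003000000003600035d00000c0000c0000c00003300003000030000600076440000c0001c0000800007700002000060000200001d800008000140000800007500002000010000500004d0000080000c0000800007300002000020000200001c8000080000800110000bb000002000070000100000dc0000400014000280000e600001000060000a0000394000040000c000ec00007400001000020003500018cc000040000c000d400063200001000010002d00002c4000040001c000ac00023700000000050000300000d8000000000c0007c00013500000000030001e00000d000000000100001800089300000000020001700003c800000000040004000027100000000030000b00004c000000000000000000000000000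 (Nat.mul 86 (Nat.land i 511))) 77371252455336267181195263
end Cfsg.Agent.Lib.Helper6.TCD.U62C
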