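set_option autoImplicit false
namespace Cfsg.Agent.Lib.Helper6.TCD.U62C
noncomputable def NH (i : Nat) : Nat := Nat.land (Nat.shiftRight 0xdb8001580013c000060002a60000e00056000144000c18001a800181000340002e800066000550000dc000af8001c0001510004b0002d40005e00055800110000d00001600019f0002b0003380005400058400110000cf000140001630002e00033a0004c000510000f8000a10001e8001400003c00026c0007600065800084000ca000100001920001f000270000020004fc000d8000cd0000e00016c000310002e00006400061c000d4000c78000c00019700017000300000100005fc0001c000bf0000300013d0002f0002fa000080005f00000c000b4000010001bc0002b00037c000100006a0000a0000af000088001ad000080002a00002200069c00018000a60001080014b000200002940003e0004d000078000d8800040001a60001f000356000080004e400000000a48000c8001a5000080002b80002800053800054000c40000c0001a300004000342000060005ec0003c000bd000070001790000d00028c000240005e00002c000bb8000500016700009000336000100006600001c000cc8000300013a0000b000320000080006440000c000bb000000001bf000000003480000c0006b0000000009d800020001b000000000344000000005a400004000c9800000001c000000 (Nat.mul 43 (Nat.land i 1023))) 8796093022207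
end Cfsg.Agent.Lib.Helper6.TCD.U62C
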