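import Cfsg.Agent.Lib.Helper6.TCD.U62C.SH
import Cfsg.Agent.Lib.Helper6.TCD.U62C.SC
import Cfsg.Agent.Lib.Helper6.TCD.U62C.NH
import Cfsg.Agent.Lib.Helper6.TCD.U62C.NC
import Cfsg.Agent.Lib.Helper6.TCD.U62C.WD
import Cfsg.Agent.Lib.Helper6.TCD.U62C.WI
set_option autoImplicit false
namespace Cfsg.Agent.Lib.Helper6.TCD.U62C
def n : Nat := 86
def ncol : Nat := 8
def nrw : Nat := 126
def nw : Nat := 126
def tmax : Nat := 448
def INV : Nat := 1985229328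
def N : Nat := 1
end Cfsg.Agent.Lib.Helper6.TCD.U62C
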